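import Groth.Agent.ClosedAffAcyc.Limit
import Groth.Agent.EtLC12.FlasqueAcyclic
import Groth.Agent.EtLC12.AffineLocalAcyclic
import Mathlib.Algebra.Category.ModuleCat.Sheaf.Abelian
import Mathlib.Algebra.Category.ModuleCat.Presheaf.Sheafification

/-!
# Čech acyclic sheaves are acyclic on étale schemes; injective sheaves of modules are Čech acyclic
-/

set_option autoImplicit false
set_option linter.style.haveILetI false
set_option linter.unusedSectionVars false
set_option backward.isDefEq.respectTransparency false
set_option backward.isDefEq.respectTransparency.types false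

universe u

open CategoryTheory CategoryTheory.Limits AlgebraicGeometry Opposite Abelian

namespace Groth.Agent.ClosedAffAcyc

open EtLC12.FlasqueAcyclic EtLC12.AffineLocalAcyclic EtFound Groth.Agent.Adeq2Lib

variable {X : Scheme.{u}}

attribute [local instance] EtFound.pull_preservesFiniteLimits

/-- Čech acyclic sheaves have no higher cohomology on étale schemes. -/
theorem subsingleton_H_etale (n : ℕ) (G : EtCoh.Ab X) (hG : IsCechAcyclic G) (T : X.Etale) :
    Subsingleton (EtCoh.H T.left ((EtCoh.pull T.hom).obj G) (n + 1)) := by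
  haveI : AlgebraicGeometry.Etale T.hom := T.prop
  haveI : EtShriek.JCont T.hom := EtFound.jCont T.hom
  induction n generalizing G with
  | zero =>
    let E := ShortComplex.mk (Injective.ι G) (cokernel.π _) (cokernel.condition (Injective.ι G))
    have hE : E.ShortExact := { exact := ShortComplex.exact_of_g_is_cokernel _ (cokernelIsCokernel _) }
    haveI hI : Injective E.X₂ := inferInstanceAs (Injective (Injective.under G))
    have hE' : (E.map (EtCoh.pull T.hom)).ShortExact := shortExact_pull (T.hom : T.left ⟶ X) hE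
    haveI : Injective (E.map (EtCoh.pull T.hom)).X₂ := injective_pull T.hom E.X₂
    haveI : Subsingleton (Sheaf.H (E.map (EtCoh.pull T.hom)).X₂ 1) :=
      subsingleton_of_forall_eq 0 fun x => Abelian.Ext.eq_zero_of_injective x
    obtain ⟨φ, hφ, hk⟩ := ZarCmp.h1_pres (EtCore.topIsTerminal T.left) _ hE'
    refine subsingleton_of_forall_eq 0 fun ξ => ?_
    obtain ⟨y, rfl⟩ := hφ ξ
    refine (hk y).2 ?_
    let c : (EtShriek.compEtale T.hom).obj (EtCoh.top T.left) ≅ T :=
      MorphismProperty.Over.isoMk (Iso.refl _) (by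
        show 𝟙 T.left ≫ T.hom = 𝟙 T.left ≫ T.hom
        rfl)
    let e := EtLC12.AffineLocalAcyclic.restrIsoPull T.hom
    obtain ⟨x, hx⟩ := EtLC12.FlasqueAcyclic.sections_surjective E hE hG
      ((EtShriek.compEtale T.hom).obj (EtCoh.top T.left))
      (((e.inv.app E.X₃).hom.app (op (EtCoh.top T.left))).hom y)
    refine ⟨((e.hom.app E.X₂).hom.app (op (EtCoh.top T.left))).hom x, ?_⟩
    refine (congrArg (fun t : (EtShriek.restrAlong T.hom).obj E.X₂ ⟶ (EtCoh.pull T.hom).obj E.X₃ =>
      (t.hom.app (op (EtCoh.top T.left))).hom x) (e.hom.naturality E.g).symm).trans ?_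
    refine (congrArg (fun z => ((e.hom.app E.X₃).hom.app (op (EtCoh.top T.left))).hom z) hx).trans ?_
    exact congrArg (fun t : (EtCoh.pull T.hom).obj E.X₃ ⟶ _ =>
      (t.hom.app (op (EtCoh.top T.left))).hom y) (e.inv_hom_id_app E.X₃)
  | succ n ih =>
    let E := ShortComplex.mk (Injective.ι G) (cokernel.π _) (cokernel.condition (Injective.ι G))
    have hE : E.ShortExact := { exact := ShortComplex.exact_of_g_is_cokernel _ (cokernelIsCokernel _) }
    haveI hI : Injective E.X₂ := inferInstanceAs (Injective (Injective.under G))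
    have hE' : (E.map (EtCoh.pull T.hom)).ShortExact := shortExact_pull (T.hom : T.left ⟶ X) hE
    haveI : Injective (E.map (EtCoh.pull T.hom)).X₂ := injective_pull T.hom E.X₂
    haveI : ∀ k, Subsingleton (Sheaf.H (E.map (EtCoh.pull T.hom)).X₂ (k + 1)) := fun k =>
      subsingleton_of_forall_eq 0 fun x => Abelian.Ext.eq_zero_of_injective x
    obtain ⟨e⟩ := ZarCmp.shift _ hE' n
    haveI : Subsingleton (Sheaf.H (E.map (EtCoh.pull T.hom)).X₃ (n + 1)) :=
      ih E.X₃ (isCechAcyclic_X₃ E hE hG (isCechAcyclic_of_injective E.X₂))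
    exact e.symm.toEquiv.subsingleton

/-- Čech acyclic sheaves are acyclic on affine étale schemes. -/
theorem affAcyclic_of_isCechAcyclic (G : EtCoh.Ab X) (hG : IsCechAcyclic G) : AffAcyclic G :=
  fun V j hj _ q => by
    haveI := hj
    exact subsingleton_H_etale q G hG (Scheme.Etale.mk j)

/-- The underlying abelian sheaf of an injective sheaf of modules over a sheaf of rings is Čech acyclic. -/
theorem isCechAcyclic_toSheaf (A : Sheaf X.smallEtaleTopology RingCat.{u + 1}) (I : SheafOfModules.{u + 1} A)
    [Injective I] : IsCechAcyclic ((SheafOfModules.toSheaf A).obj I) := by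
  intro U _ ι Uf p
  haveI : LocallySmall.{u + 1} X.Etale := ⟨fun _ _ => inferInstance⟩
  let P : PresheafOfModules.{u + 1} A.obj :=
    (SheafOfModules.forget A ⋙ PresheafOfModules.restrictScalars (𝟙 A.obj)).obj I
  haveI : Injective P :=
    Injective.injective_of_adjoint (PresheafOfModules.sheafificationAdjunction.{u + 1} (R := A) (𝟙 A.obj)) I
  let K₀ := cofree (C := X.Etale) fun T₀ => P.presheaf.obj (op T₀)
  letI hmod : ∀ (T : X.Etaleᵒᵖ) (T₀ : X.Etale) (h : T₀ ⟶ T.unop), Module (A.obj.obj T) (P.presheaf.obj (op T₀)) :=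
    fun T T₀ h => Module.compHom (P.obj (op T₀)) (A.obj.map h.op).hom
  letI : ∀ T : X.Etaleᵒᵖ, Module (A.obj.obj T) (K₀.obj T) := fun T =>
    @Pi.module X.Etale (fun T₀ => (T₀ ⟶ T.unop) → P.presheaf.obj (op T₀)) (A.obj.obj T) _ _
      (fun T₀ => @Pi.module (T₀ ⟶ T.unop) (fun _ => P.presheaf.obj (op T₀)) (A.obj.obj T) _ _ (hmod T T₀))
  let K : PresheafOfModules.{u + 1} A.obj := PresheafOfModules.ofPresheaf K₀ fun T T' f r x =>
    funext fun T₀ => funext fun h => by
      show A.obj.map (h ≫ f.unop).op r • (show P.obj (op T₀) from x T₀ (h ≫ f.unop)) =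
        A.obj.map h.op (A.obj.map f r) • (show P.obj (op T₀) from x T₀ (h ≫ f.unop))
      rw [op_comp, Functor.map_comp]
      rfl
  let m₀ : P.presheaf ⟶ K₀ :=
    { app := fun T => AddCommGrpCat.ofHom
        { toFun := fun s T₀ h => (P.presheaf.map h.op).hom s
          map_zero' := funext₂ fun T₀ h => map_zero _
          map_add' := fun a b => funext₂ fun T₀ h => map_add _ a b }
      naturality := fun S T f => AddCommGrpCat.hom_ext <| AddMonoidHom.ext fun s => funext₂ fun T₀ h =>
        (congrArg (fun t => t.hom s) (P.presheaf.map_comp f h.op)).symm }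
  let m : P ⟶ K := PresheafOfModules.homMk m₀ fun T r s => funext fun T₀ => funext fun h =>
    P.map_smul h.op r s
  haveI : Mono ((PresheafOfModules.toPresheaf A.obj).map m) := by
    have hT : ∀ T, Mono (((PresheafOfModules.toPresheaf A.obj).map m).app T) := fun T =>
      (AddCommGrpCat.mono_iff_injective _).2 fun a b hab => by
        have h : (P.presheaf.map (𝟙 T.unop).op).hom a = (P.presheaf.map (𝟙 T.unop).op).hom b :=
          congrFun (congrFun hab T.unop) (𝟙 _)
        rw [op_id, P.presheaf.map_id] at h
        exact h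
    exact NatTrans.mono_of_mono_app _
  haveI : Mono m := (PresheafOfModules.toPresheaf A.obj).mono_of_mono_map ‹_›
  refine isZero_cechH_of_retract (fun T₀ => P.presheaf.obj (op T₀)) Uf
    ((PresheafOfModules.toPresheaf A.obj).map m)
    ((PresheafOfModules.toPresheaf A.obj).map (Injective.factorThru (𝟙 P) m)) ?_ p
  refine ((PresheafOfModules.toPresheaf A.obj).map_comp _ _).symm.trans ?_
  rw [Injective.comp_factorThru]
  exact (PresheafOfModules.toPresheaf A.obj).map_id P

end Groth.Agent.ClosedAffAcyc
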