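import Groth.Agent.ClosedAffAcyc.Limit
import Groth.Agent.EtMVLib.MV

/-!
# Vanishing on closed subschemes covered by finitely many affines
-/

set_option autoImplicit false
set_option linter.style.haveILetI false
set_option linter.unusedSectionVars false
set_option backward.isDefEq.respectTransparency false
set_option backward.isDefEq.respectTransparency.types false

universe u

open CategoryTheory CategoryTheory.Limits AlgebraicGeometry Opposite Abelian

namespace Groth.Agent.ClosedAffAcyc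

attribute [local instance] EtFound.pull_preservesFiniteLimits

/-- Vanishing above the number of affines of a cover. -/
theorem subsingleton_H_cover (m : ℕ) : ∀ (X : Scheme.{u})
    (_ : ∀ U V : X.Opens, IsAffineOpen U → IsAffineOpen V → IsAffineOpen (U ⊓ V))
    (W : Fin (m + 1) → X.Opens) (_ : ∀ k, IsAffineOpen (W k)) (_ : ⨆ k, W k = ⊤)
    {Z : Scheme.{u}} (i : Z ⟶ X) [IsClosedImmersion i] (G : EtCoh.Ab X) (_ : EtCoh.IsTorsion G)
    (_ : AffAcyclic G) (q : ℕ) (_ : m < q), Subsingleton (EtCoh.H Z ((EtCoh.pull i).obj G) q) := by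
  induction m with
  | zero =>
    intro X _ W hW hcov Z i _ G hT hG q hq
    haveI : IsAffine X := by
      haveI : IsAffine (⊤ : X.Opens) := by
        show IsAffineOpen (⊤ : X.Opens)
        rw [← hcov, show (⨆ k, W k) = W 0 from le_antisymm (iSup_le fun k => by rw [Subsingleton.elim (α := Fin 1) k 0]) (le_iSup W 0)]
        exact hW 0
      exact .of_isIso X.topIso.inv
    obtain ⟨p, rfl⟩ := Nat.exists_eq_succ_of_ne_zero (n := q) (by omega)
    exact subsingleton_H_closed i G hT hG p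
  | succ m ih =>
    intro X hΔ W hW hcov Z i hi G hT hG q hq
    have hopen : ∀ (O : X.Opens) (W' : Fin (m + 1) → X.Opens), (∀ k, IsAffineOpen (W' k)) → ⨆ k, W' k = O →
        ∀ p, m < p →
          Subsingleton (EtCoh.H ↑(i ⁻¹ᵁ O) ((EtCoh.pull (i ⁻¹ᵁ O).ι).obj ((EtCoh.pull i).obj G)) p) := by
      intro O W' hW' hO p hp
      have hle : ∀ k, W' k ≤ O := fun k => hO ▸ le_iSup W' k
      have haff : ∀ k, IsAffineOpen (O.ι ⁻¹ᵁ W' k) := fun k =>
        (hW' k).preimage_of_isOpenImmersion O.ι (by rw [Scheme.Opens.opensRange_ι]; exact hle k)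
      have h := ih (↑O : Scheme.{u}) (fun A B hA hB => by
          have h1 := hΔ _ _ (hA.image_of_isOpenImmersion O.ι) (hB.image_of_isOpenImmersion O.ι)
          have h2 := h1.preimage_of_isOpenImmersion O.ι
            (inf_le_left.trans (Scheme.Hom.image_le_opensRange _ _))
          rwa [Scheme.Hom.preimage_inf, Scheme.Hom.preimage_image_eq, Scheme.Hom.preimage_image_eq] at h2)
        (fun k => O.ι ⁻¹ᵁ W' k) haff
        (by rw [← Scheme.Hom.preimage_iSup, hO, Scheme.Opens.ι_preimage_self])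
        (i ∣_ O) ((EtCoh.pull O.ι).obj G) (H9Transfer.isTorsion_pull O.ι G hT) (hG.pull O.ι) p hp
      refine (subsingleton_pull_pull (i ⁻¹ᵁ O).ι i _ rfl G p).2 ?_
      exact (subsingleton_pull_pull (i ∣_ O) O.ι _ (morphismRestrict_ι i O) G p).1 h
    let U : X.Opens := ⨆ k : Fin (m + 1), W k.castSucc
    let V : X.Opens := W (Fin.last (m + 1))
    have hUV : U ⊔ V = ⊤ := by
      refine top_le_iff.1 (hcov.ge.trans (iSup_le fun k => ?_))
      induction k using Fin.lastCases with
      | last => exact le_sup_right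
      | cast k => exact (le_iSup (fun k : Fin (m + 1) => W k.castSucc) k).trans le_sup_left
    obtain ⟨n, rfl⟩ := Nat.exists_eq_succ_of_ne_zero (n := q) (by omega)
    haveI hU := hopen U _ (fun k => hW _) rfl (n + 1) (by omega)
    haveI hV := hopen V (fun _ => V) (fun _ => hW _) (ciSup_const (a := V)) (n + 1) (by omega)
    haveI hUV' : Subsingleton (EtCoh.H ↑(i ⁻¹ᵁ U ⊓ i ⁻¹ᵁ V)
        ((EtCoh.pull (i ⁻¹ᵁ U ⊓ i ⁻¹ᵁ V).ι).obj ((EtCoh.pull i).obj G)) n) :=
      hopen (U ⊓ V) (fun k => W k.castSucc ⊓ V) (fun k => hΔ _ _ (hW _) (hW _)) (iSup_inf_eq _ _).symm n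
        (by omega)
    obtain ⟨δ, -, hker, -, -⟩ := EtMVLib.mayerVietoris Z (i ⁻¹ᵁ U) (i ⁻¹ᵁ V)
      (by rw [← Scheme.Hom.preimage_sup, hUV, Scheme.Hom.preimage_top]) ((EtCoh.pull i).obj G)
    refine subsingleton_of_forall_eq 0 fun ξ => ?_
    have hξ : ξ ∈ (AddMonoidHom.prod (EtCore.Hpull (i ⁻¹ᵁ U).ι ((EtCoh.pull i).obj G) (n + 1))
        (EtCore.Hpull (i ⁻¹ᵁ V).ι ((EtCoh.pull i).obj G) (n + 1))).ker :=
      Prod.ext (hU.allEq _ _) (hV.allEq _ _)
    rw [hker n] at hξ
    obtain ⟨η, rfl⟩ := hξ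
    rw [hUV'.allEq η 0, map_zero]

end Groth.Agent.ClosedAffAcyc
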