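import Groth.Agent.ClosedAffAcyc.Limit
import Groth.Agent.EtFound.Efface
import Groth.Agent.EtLC12.AffineLocalAcyclic
import Mathlib.CategoryTheory.ObjectProperty.FullSubcategory

/-!
# Injective objects among sheaves killed by an integer are acyclic
-/

set_option autoImplicit false
set_option linter.style.haveILetI false
set_option linter.unusedSectionVars false
set_option backward.isDefEq.respectTransparency false
set_option backward.isDefEq.respectTransparency.types false

universe u

open CategoryTheory CategoryTheory.Limits AlgebraicGeometry Opposite Abelian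

namespace Groth.Agent.ClosedAffAcyc

attribute [local instance] EtFound.pull_preservesFiniteLimits

variable {X : Scheme.{u}} {n : ℕ}

/-- An injective object among sheaves killed by `n` is a retract of the `n`-torsion of an injective sheaf. -/
theorem exists_retract (I : EtCoh.Ab X) (hI : EtCoh.KilledBy n I)
    (hinj : Injective (ObjectProperty.FullSubcategory.mk (P := fun F : EtCoh.Ab X => EtCoh.KilledBy n F) I hI)) :
    ∃ (s : I ⟶ kernel (n • 𝟙 (Injective.under I))) (r : kernel (n • 𝟙 (Injective.under I)) ⟶ I), s ≫ r = 𝟙 I := by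
  let J := Injective.under I
  let K := kernel (n • 𝟙 J)
  let s : I ⟶ K := kernel.lift (n • 𝟙 J) (Injective.ι I) (by
    rw [Preadditive.comp_nsmul, Category.comp_id]
    calc n • Injective.ι I = (n • 𝟙 I) ≫ Injective.ι I := by rw [Preadditive.nsmul_comp, Category.id_comp]
      _ = 0 := by rw [(EtFound.killedBy_iff_nsmul n I).1 hI, zero_comp])
  have hK : EtCoh.KilledBy n K := by
    refine (EtFound.killedBy_iff_nsmul n K).2 ?_
    rw [← cancel_mono (kernel.ι (n • 𝟙 J)), Preadditive.nsmul_comp, Category.id_comp, zero_comp]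
    refine Eq.trans ?_ (kernel.condition (n • 𝟙 J))
    rw [Preadditive.comp_nsmul, Category.comp_id]
  haveI : Mono s := by
    haveI : Mono (s ≫ kernel.ι (n • 𝟙 J)) := by rw [kernel.lift_ι]; infer_instance
    exact mono_of_mono s (kernel.ι (n • 𝟙 J))
  let P : ObjectProperty (EtCoh.Ab X) := fun F => EtCoh.KilledBy n F
  let s' : (⟨I, hI⟩ : P.FullSubcategory) ⟶ ⟨K, hK⟩ := ObjectProperty.homMk s
  haveI : Mono (P.ι.map s') := inferInstanceAs (Mono s)
  haveI : Mono s' := P.ι.mono_of_mono_map ‹_›
  haveI : Injective (⟨I, hI⟩ : P.FullSubcategory) := hinj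
  exact ⟨s, P.ι.map (Injective.factorThru (𝟙 _) s'),
    congrArg P.ι.map (Injective.comp_factorThru (𝟙 (⟨I, hI⟩ : P.FullSubcategory)) s')⟩

theorem subsingleton_of_retract {I K : EtCoh.Ab X} (s : I ⟶ K) (r : K ⟶ I) (h : s ≫ r = 𝟙 I) (q : ℕ)
    (hK : Subsingleton (EtCoh.H X K q)) : Subsingleton (EtCoh.H X I q) := by
  refine subsingleton_of_forall_eq 0 fun x => ?_
  have hx : x = (x.comp (Ext.mk₀ s) (add_zero q)).comp (Ext.mk₀ r) (add_zero q) := by
    rw [Ext.comp_assoc_of_third_deg_zero, Ext.mk₀_comp_mk₀, h, Ext.comp_mk₀_id]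
  rw [hx, hK.allEq (x.comp (Ext.mk₀ s) (add_zero q)) 0, Ext.zero_comp]

/-- The `n`-torsion of an injective sheaf is acyclic on étale schemes. -/
theorem subsingleton_H_pull_nTorsion (J : EtCoh.Ab X) [Injective J] (hn : 0 < n) {V : Scheme.{u}} (j : V ⟶ X)
    [AlgebraicGeometry.Etale j] (q : ℕ) :
    Subsingleton (EtCoh.H V ((EtCoh.pull j).obj (kernel (n • 𝟙 J))) (q + 1)) := by
  haveI : EtShriek.JCont j := EtFound.jCont j
  haveI : Injective ((EtCoh.pull j).obj J) := EtLC12.AffineLocalAcyclic.injective_pull j J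
  haveI : (EtCoh.pull j).Additive := EtCore.pull_additive j
  let e : (EtCoh.pull j).obj (kernel (n • 𝟙 J)) ≅ kernel (n • 𝟙 ((EtCoh.pull j).obj J)) :=
    PreservesKernel.iso (EtCoh.pull j) (n • 𝟙 J) ≪≫
      kernelIsoOfEq (by rw [Functor.map_nsmul, CategoryTheory.Functor.map_id])
  haveI := EtFound.TorsionInd.subsingleton_H_nTorsion ((EtCoh.pull j).obj J) hn q
  exact (EtAcycLib.bijective_comp_mk₀ (A := EtCoh.const V ℤ) (n := q + 1) e).1.subsingleton

/-- Injective objects among sheaves killed by `n` are acyclic on étale schemes. -/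
theorem affAcyclic_of_injective_killed (hn : 0 < n) (I : EtCoh.Ab X) (hI : EtCoh.KilledBy n I)
    (hinj : Injective (ObjectProperty.FullSubcategory.mk (P := fun F : EtCoh.Ab X => EtCoh.KilledBy n F) I hI)) :
    AffAcyclic I := fun V j hj _ q => by
  haveI := hj
  obtain ⟨s, r, h⟩ := exists_retract I hI hinj
  exact subsingleton_of_retract ((EtCoh.pull j).map s) ((EtCoh.pull j).map r)
    (by rw [← Functor.map_comp, h, CategoryTheory.Functor.map_id]) (q + 1)
    (subsingleton_H_pull_nTorsion (Injective.under I) hn j q)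

/-- Injective objects among sheaves killed by `n` are acyclic. -/
theorem subsingleton_H_of_injective_killed (hn : 0 < n) (I : EtCoh.Ab X) (hI : EtCoh.KilledBy n I)
    (hinj : Injective (ObjectProperty.FullSubcategory.mk (P := fun F : EtCoh.Ab X => EtCoh.KilledBy n F) I hI))
    (q : ℕ) : Subsingleton (EtCoh.H X I (q + 1)) := by
  obtain ⟨s, r, h⟩ := exists_retract I hI hinj
  exact subsingleton_of_retract s r h (q + 1) (EtFound.TorsionInd.subsingleton_H_nTorsion (Injective.under I) hn q)

theorem isTorsion_of_killedBy (hn : 0 < n) {F : EtCoh.Ab X} (hF : EtCoh.KilledBy n F) : EtCoh.IsTorsion F :=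
  fun U s x => ⟨U, 𝟙 U, ⟨x, rfl⟩, isOfFinAddOrder_iff_nsmul_eq_zero.2 ⟨n, hn, hF _ _⟩⟩

end Groth.Agent.ClosedAffAcyc
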