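import Groth.Agent.GabberAffine.Main
import Groth.Agent.RpushStalk.BaseSys
import Groth.Agent.Hensel.Colim
import Groth.Agent.H9Transfer.TorsionSheaf
import Mathlib.CategoryTheory.Presentable.Directed

/-!
# Cohomology of closed subschemes of affine schemes for sheaves acyclic on affine étale schemes
-/

set_option autoImplicit false
set_option linter.style.haveILetI false
set_option linter.unusedSectionVars false
set_option backward.isDefEq.respectTransparency false
set_option backward.isDefEq.respectTransparency.types false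

universe u

open CategoryTheory CategoryTheory.Limits AlgebraicGeometry Opposite Abelian

namespace Groth.Agent.ClosedAffAcyc

open EtLim8 RpushStalk
open Groth.Agent.Hensel (Henz Nbhd NbhdCat)

attribute [local instance] EtFound.pull_preservesFiniteLimits

/-- No cohomology in positive degrees on affine étale schemes. -/
def AffAcyclic {X : Scheme.{u}} (F : EtCoh.Ab X) : Prop :=
  ∀ (V : Scheme.{u}) (j : V ⟶ X), AlgebraicGeometry.Etale j → IsAffine V → ∀ q : ℕ,
    Subsingleton (EtCoh.H V ((EtCoh.pull j).obj F) (q + 1))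

/-- Transfer along composites. -/
theorem subsingleton_pull_pull {W U X : Scheme.{u}} (g : W ⟶ U) (f : U ⟶ X) (h : W ⟶ X) (w : g ≫ f = h)
    (F : EtCoh.Ab X) (q : ℕ) :
    Subsingleton (EtCoh.H W ((EtCoh.pull g).obj ((EtCoh.pull f).obj F)) q) ↔
      Subsingleton (EtCoh.H W ((EtCoh.pull h).obj F) q) := by
  have hb := EtAcycLib.bijective_comp_mk₀ (A := EtCoh.const W ℤ) (n := q)
    ((((EtCore.pullComp g f).symm ≪≫ EtCore.pullCongr w)).app F)
  exact ⟨fun h' => @Function.Surjective.subsingleton _ _ _ h' hb.2, fun h' => @Function.Injective.subsingleton _ _ _ hb.1 h'⟩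

theorem subsingleton_of_isIso {W U : Scheme.{u}} (g : W ⟶ U) [IsIso g] (G : EtCoh.Ab U) (q : ℕ)
    (h : Subsingleton (EtCoh.H U G q)) : Subsingleton (EtCoh.H W ((EtCoh.pull g).obj G) q) :=
  (EtAcycLib.bijective_Hpull_of_isIso g G q).2.subsingleton

theorem AffAcyclic.pull {X U : Scheme.{u}} {F : EtCoh.Ab X} (hF : AffAcyclic F) (f : U ⟶ X)
    [AlgebraicGeometry.Etale f] : AffAcyclic ((EtCoh.pull f).obj F) := fun V j hj hV q => by
  haveI := hj
  exact (subsingleton_pull_pull j f (j ≫ f) rfl F (q + 1)).2 (hF V (j ≫ f) inferInstance hV q)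

section limit

variable {ι : Type u} [Preorder ι] [IsDirected ι (· ≤ ·)] [Nonempty ι] {Xs : ιᵒᵖ ⥤ Scheme.{u}} {T : Scheme.{u}}
  [hA : ∀ {a b : ιᵒᵖ} (h : a ⟶ b), IsAffineHom (Xs.map h)]

/-- Classes on the limit come from a stage. -/
theorem subsingleton_H_pull_limit_of_stages (t : ∀ i, Xs.obj (op i) ⟶ T)
    (ht : ∀ ⦃i j : ι⦄ (h : i ≤ j), tr Xs h ≫ t i = t j) (F : EtCoh.Ab T) (c : Cone Xs) (r : c.pt ⟶ T)
    (hr : ∀ i, pr c i ≫ t i = r) (hc : IsLimit c) (hqc : ∀ a, CompactSpace ↥(Xs.obj a))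
    (hqs : ∀ a, QuasiSeparatedSpace ↥(Xs.obj a)) (q : ℕ)
    (h : ∀ i, Subsingleton (EtCoh.H (Xs.obj (op i)) ((EtCoh.pull (t i)).obj F) q)) :
    Subsingleton (EtCoh.H c.pt ((EtCoh.pull r).obj F) q) := by
  let S := baseSys t ht F
  have hU := baseSys_isUnital t ht F
  haveI : Subsingleton (EtCoh.H c.pt (colimit (S.diag c hU).G) q) := subsingleton_of_forall_eq 0 fun ξ => by
    obtain ⟨j, ξj, rfl⟩ := (Sys.comm hc hqc hqs q S hU).surj ξ
    exact (congrArg _ (@Subsingleton.elim _ (h j) ξj 0)).trans (map_zero _)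
  haveI := isIso_baseColimHom t ht F c r hr
  exact (EtAcycLib.bijective_comp_mk₀ (asIso (baseColimHom t ht F c r hr))).2.subsingleton

end limit

variable {A K : Type u} [CommRing A] [CommRing K] [Algebra A K]

/-- The map from the henselization to the base. -/
noncomputable abbrev toBase (A K : Type u) [CommRing A] [CommRing K] [Algebra A K] :
    Spec (CommRingCat.of (Henz A K)) ⟶ Spec (CommRingCat.of A) :=
  Spec.map (CommRingCat.ofHom (algebraMap A (Henz A K)))

/-- The colimit of the neighbourhoods, of rings. -/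
noncomputable def ringCocone (A K : Type u) [CommRing A] [CommRing K] [Algebra A K] :
    Cocone (Hensel.nbhdDiagram A K ⋙ CategoryTheory.Under.forget _) :=
  (CategoryTheory.Under.forget _).mapCocone (Hensel.nbhdCocone A K)

/-- A sheaf acyclic on affine étale schemes is acyclic on a henselization. -/
theorem subsingleton_H_henz {X : Scheme.{u}} (b : Spec (CommRingCat.of A) ⟶ X) [AlgebraicGeometry.Etale b]
    (F : EtCoh.Ab X) (hF : AffAcyclic F) (q : ℕ) :
    Subsingleton (EtCoh.H (Spec (CommRingCat.of (Henz A K))) ((EtCoh.pull (toBase A K ≫ b)).obj F) (q + 1)) := by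
  haveI : IsConnected (NbhdCat A K) := IsFiltered.isConnected _
  obtain ⟨α, _, _, _, G, _⟩ := IsFiltered.exists_directed (NbhdCat A K)
  let D := G ⋙ Hensel.nbhdDiagram A K ⋙ CategoryTheory.Under.forget _
  let cc : Cocone D := (ringCocone A K).whisker G
  have hcc : IsColimit cc := (Functor.Final.isColimitWhiskerEquiv G _).symm
    (isColimitOfPreserves _ (Hensel.isColimitNbhdCocone A K))
  let Xs : αᵒᵖ ⥤ Scheme.{u} := D.op ⋙ Scheme.Spec
  let c : Cone Xs := Scheme.Spec.mapCone cc.op
  let hc : IsLimit c := isLimitOfPreserves Scheme.Spec hcc.op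
  haveI : ∀ a, IsAffine (Xs.obj a) := fun a => inferInstanceAs (IsAffine (Spec _))
  haveI : ∀ {a b : αᵒᵖ} (h : a ⟶ b), IsAffineHom (Xs.map h) := fun h => inferInstance
  let t : ∀ i, Xs.obj (op i) ⟶ X := fun i =>
    Spec.map (CommRingCat.ofHom (algebraMap A (G.obj i).N.B)) ≫ b
  refine subsingleton_H_pull_limit_of_stages (Xs := Xs) t (fun i j h => ?_) F c (toBase A K ≫ b) (fun i => ?_)
    hc (fun a => inferInstance) (fun a => inferInstance) (q + 1) (fun i => ?_)
  · show Spec.map (CommRingCat.ofHom (G.map (homOfLE h)).1.toRingHom) ≫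
      Spec.map (CommRingCat.ofHom (algebraMap A (G.obj i).N.B)) ≫ b = _
    rw [← Category.assoc, ← Spec.map_comp, ← CommRingCat.ofHom_comp]
    exact congrArg (fun φ => Spec.map (CommRingCat.ofHom φ) ≫ b) (G.map (homOfLE h)).1.comp_algebraMap
  · show Spec.map (CommRingCat.ofHom (Henz.ofB (G.obj i).N).toRingHom) ≫
      Spec.map (CommRingCat.ofHom (algebraMap A (G.obj i).N.B)) ≫ b = _
    rw [← Category.assoc, ← Spec.map_comp, ← CommRingCat.ofHom_comp]
    exact congrArg (fun φ => Spec.map (CommRingCat.ofHom φ) ≫ b) (Henz.ofB (G.obj i).N).comp_algebraMap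
  · haveI : AlgebraicGeometry.Etale (Spec.map (CommRingCat.ofHom (algebraMap A (G.obj i).N.B))) :=
      HasRingHomProperty.Spec_iff.2 (RingHom.etale_algebraMap.2 (G.obj i).N.etale)
    exact hF _ (t i) inferInstance inferInstance q

/-- Acyclicity on a closed subscheme cut out by an ideal. -/
theorem subsingleton_H_quotient {X : Scheme.{u}} (b : Spec (CommRingCat.of A) ⟶ X) [AlgebraicGeometry.Etale b]
    (I : Ideal A) (F : EtCoh.Ab X) (hT : EtCoh.IsTorsion F) (hF : AffAcyclic F) (q : ℕ) :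
    Subsingleton (EtCoh.H (Spec (CommRingCat.of (A ⧸ I)))
      ((EtCoh.pull (Spec.map (CommRingCat.ofHom (Ideal.Quotient.mk I)) ≫ b)).obj F) (q + 1)) := by
  let B := Hensel.PairHenz A I
  let J : Ideal B := I.map (algebraMap A B)
  haveI : HenselianRing B J := (Hensel.isPairHenselization_pairHenz A I).1
  let k := Spec.map (CommRingCat.ofHom (Ideal.Quotient.mk J))
  haveI : IsClosedImmersion k := IsClosedImmersion.spec_of_surjective _ Ideal.Quotient.mk_surjective
  let r := toBase A (A ⧸ I) ≫ b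
  let G := (EtCoh.pull r).obj F
  have hG : EtCoh.IsTorsion G := H9Transfer.isTorsion_pull r F hT
  have hb := GabberAffine.bijective_Hpull k
    (fun G' _ => GabberAffine.bijective_Hpull_zero_of_unit _ G' (S0122.result B J G')) (q + 1) G hG
  haveI := subsingleton_H_henz (K := A ⧸ I) b F hF q
  haveI hz : Subsingleton (EtCoh.H (Spec (CommRingCat.of (B ⧸ J))) ((EtCoh.pull k).obj G) (q + 1)) :=
    hb.2.subsingleton
  let σ : B ⧸ J →+* A ⧸ I := Ideal.Quotient.lift J (Henz.proj A (A ⧸ I)).toRingHom fun x hx => by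
    exact RingHom.mem_ker.1 ((Hensel.ker_proj_pairHenz A I).symm ▸ hx)
  have hσ : Function.Bijective σ := by
    refine ⟨RingHom.lift_injective_of_ker_le_ideal _ _ (le_of_eq (Hensel.ker_proj_pairHenz A I)), fun y => ?_⟩
    obtain ⟨a, rfl⟩ := Ideal.Quotient.mk_surjective y
    exact ⟨Ideal.Quotient.mk J (algebraMap A B a), (Henz.proj A (A ⧸ I)).commutes a⟩
  let g := Spec.map (CommRingCat.ofHom σ)
  haveI : IsIso g := by
    haveI : IsIso (CommRingCat.ofHom σ) :=
      (RingEquiv.ofBijective σ hσ).toCommRingCatIso.isIso_hom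
    infer_instance
  refine (subsingleton_pull_pull g (k ≫ r) _ ?_ F (q + 1)).1 (subsingleton_of_isIso g _ _ ?_)
  · show g ≫ k ≫ toBase A (A ⧸ I) ≫ b = _
    rw [← Category.assoc k, ← Spec.map_comp, ← Category.assoc g, ← Spec.map_comp, ← CommRingCat.ofHom_comp,
      ← CommRingCat.ofHom_comp]
    exact congrArg (fun φ => Spec.map (CommRingCat.ofHom φ) ≫ b)
      (RingHom.ext fun a => (Henz.proj A (A ⧸ I)).commutes a)
  · exact (subsingleton_pull_pull k r (k ≫ r) rfl F (q + 1)).1 hz

/-- Acyclicity on closed subschemes of affine schemes. -/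
theorem subsingleton_H_closed {X : Scheme.{u}} [IsAffine X] {Z : Scheme.{u}} (i : Z ⟶ X) [IsClosedImmersion i]
    (F : EtCoh.Ab X) (hT : EtCoh.IsTorsion F) (hF : AffAcyclic F) (q : ℕ) :
    Subsingleton (EtCoh.H Z ((EtCoh.pull i).obj F) (q + 1)) := by
  obtain ⟨I, e, he⟩ := IsClosedImmersion.Spec_iff.1 (inferInstance : IsClosedImmersion (i ≫ X.isoSpec.hom))
  haveI : AlgebraicGeometry.Etale X.isoSpec.inv := inferInstance
  have h := subsingleton_H_quotient (A := Γ(X, ⊤)) X.isoSpec.inv I F hT hF q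
  have hw : e.hom ≫ Spec.map (CommRingCat.ofHom (Ideal.Quotient.mk I)) ≫ X.isoSpec.inv = i := by
    rw [← reassoc_of% he, Iso.hom_inv_id, Category.comp_id]
  exact (subsingleton_pull_pull e.hom _ i hw F (q + 1)).1 (subsingleton_of_isIso e.hom _ _ h)

end Groth.Agent.ClosedAffAcyc
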