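import Groth.Agent.H1Proper.Main

/-!
# First cohomology of torsion sheaves on a proper scheme over a henselian local ring
-/

set_option autoImplicit false
set_option linter.style.haveILetI false
set_option linter.unusedSectionVars false
set_option backward.isDefEq.respectTransparency false
set_option backward.isDefEq.respectTransparency.types false

universe u

open CategoryTheory CategoryTheory.Limits AlgebraicGeometry Opposite Abelian

namespace Groth.Agent.ClosedAffAcyc

attribute [local instance] EtFound.pull_preservesFiniteLimits

variable {A : Type u} [CommRing A] [HenselianLocalRing A]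

/-- The inclusion of the closed fibre. -/
noncomputable abbrev closedIncl {X : Scheme.{u}} (f : X ⟶ Spec (CommRingCat.of A)) :
    pullback f (Spec.map (CommRingCat.ofHom (IsLocalRing.residue A))) ⟶ X :=
  pullback.fst f (Spec.map (CommRingCat.ofHom (IsLocalRing.residue A)))

/-- Degree zero for constant sheaves on finite schemes over a proper scheme. -/
theorem bijective_Hpull_const_zero {X : Scheme.{u}} (f : X ⟶ Spec (CommRingCat.of A)) [IsProper f]
    (Y' : Scheme.{u}) (p : Y' ⟶ X) [IsFinite p] (n : ℕ) [NeZero n]
    [PreservesFiniteLimits (EtCoh.pull (pullback.fst p (closedIncl f)))] :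
    Function.Bijective (EtCore.Hpull (pullback.fst p (closedIncl f)) (EtCoh.const Y' (ZMod n)) 0) := by
  let s := Spec.map (CommRingCat.ofHom (IsLocalRing.residue A))
  let g := closedIncl f
  haveI : IsClosedImmersion s := IsClosedImmersion.spec_of_surjective _ Ideal.Quotient.mk_surjective
  haveI : IsLocallyNoetherian (pullback p g) :=
    LocallyOfFiniteType.isLocallyNoetherian (pullback.snd p g ≫ pullback.snd f s)
  haveI : CompactSpace ↥(pullback p g) :=
    QuasiCompact.compactSpace_of_compactSpace (pullback.snd p g ≫ pullback.snd f s)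
  haveI : AlgebraicGeometry.IsNoetherian (pullback p g) := { }
  refine H1Proper.bijective_Hpull_zero _ ?_ _
  refine (HensCouple7.scheme_lifts_iff p g).2 ?_
  rw [show Set.range g = Set.range (pullback.fst f (Spec.map (CommRingCat.ofHom
    (Ideal.Quotient.mk (IsLocalRing.maximalIdeal A))))) from rfl,
    HensCouple7.range_fst_mk (IsLocalRing.maximalIdeal A) f, ← Set.preimage_comp]
  exact Graft.lifts_proper_pair (IsLocalRing.maximalIdeal A) (p ≫ f)

/-- Surjectivity in degree one for constant sheaves on finite schemes over a proper scheme. -/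
theorem surjective_Hpull_const_one {X : Scheme.{u}} (f : X ⟶ Spec (CommRingCat.of A)) [IsProper f]
    (Y' : Scheme.{u}) (p : Y' ⟶ X) [IsFinite p] (n : ℕ) [NeZero n]
    [PreservesFiniteLimits (EtCoh.pull (pullback.fst p (closedIncl f)))] :
    Function.Surjective (EtCore.Hpull (pullback.fst p (closedIncl f)) (EtCoh.const Y' (ZMod n)) 1) := by
  let e := pullbackRightPullbackFstIso f (Spec.map (CommRingCat.ofHom (IsLocalRing.residue A))) p
  have w : e.hom ≫ pullback.fst (p ≫ f) _ = pullback.fst p (closedIncl f) :=
    pullbackRightPullbackFstIso_hom_fst _ _ _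
  refine (((EtAcycLib.bijective_Hpull_comp_iff e.hom _ _ w _ 1).1).2 ?_).2
  exact (EtAcycLib.bijective_Hpull_of_isIso e.hom _ 1).comp (H1Proper.bijective_Hpull (p ≫ f) (ZMod n))

/-- Restriction to the closed fibre is bijective in degrees at most one on torsion sheaves. -/
theorem bijective_Hpull_torsion {X : Scheme.{u}} (f : X ⟶ Spec (CommRingCat.of A)) [IsProper f]
    (F : EtCoh.Ab X) (hF : EtAcyc.IsLTorsion (Set.univ : Set ℕ) F) (q : ℕ) (hq : q ≤ 1) :
    Function.Bijective (EtCore.Hpull (closedIncl f) F q) := by
  haveI : IsClosedImmersion (Spec.map (CommRingCat.ofHom (IsLocalRing.residue A))) :=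
    IsClosedImmersion.spec_of_surjective _ Ideal.Quotient.mk_surjective
  haveI : IsClosedImmersion (closedIncl f) := inferInstance
  haveI : CompactSpace X := QuasiCompact.compactSpace_of_compactSpace f
  haveI : QuasiSeparatedSpace X := quasiSeparatedSpace_of_quasiSeparated f
  let g := closedIncl f
  exact (AcycFin.compare' g (L := Set.univ) (n := 1) (AcycFin.intConstSurj_of_finite g Set.univ 1
      (fun Y' p _ l hl _ ν _ _ r hr => by
        haveI : NeZero (l ^ ν) := ⟨pow_ne_zero ν hl.ne_zero⟩
        interval_cases r
        · exact (bijective_Hpull_const_zero f Y' p (l ^ ν)).2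
        · exact surjective_Hpull_const_one f Y' p (l ^ ν)))
    (fun G hG => AcycFin.injective0_torsion g (fun E m hE hm hEm =>
      AcycFin.injective0_constructible g (AcycFin.intConstInj_of_finite g Set.univ
        (fun Y' p _ l hl _ ν _ _ => by
          haveI : NeZero (l ^ ν) := ⟨pow_ne_zero ν hl.ne_zero⟩
          exact (bijective_Hpull_const_zero f Y' p (l ^ ν)).1)) E hE m hm hEm) G hG) F hF).1 q hq

end Groth.Agent.ClosedAffAcyc
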